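import Mathlib.AlgebraicTopology.SimplicialObject.Homotopy
import Mathlib.AlgebraicTopology.CechNerve

/-!
Two maps of arrows with the same codomain component induce homotopic maps of Čech nerves.
-/

set_option autoImplicit false
set_option backward.isDefEq.respectTransparency false
set_option backward.isDefEq.respectTransparency.types false
set_option maxHeartbeats 1000000
set_option linter.unusedSimpArgs false

universe v u

open CategoryTheory Limits Opposite Simplicial

namespace Groth.Agent.NerveHtpy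

variable {C : Type u} [Category.{v} C]

theorem predAbove_val {n : ℕ} (i : Fin n) (a : Fin (n + 1)) :
    (i.predAbove a : ℕ) = if (i : ℕ) < (a : ℕ) then (a : ℕ) - 1 else (a : ℕ) := by
  simp only [Fin.predAbove, Fin.lt_def, Fin.val_castSucc]
  split_ifs <;> simp

theorem succAbove_val {n : ℕ} (p : Fin (n + 1)) (b : Fin n) :
    (p.succAbove b : ℕ) = if (b : ℕ) < (p : ℕ) then (b : ℕ) else (b : ℕ) + 1 := by
  simp only [Fin.succAbove, Fin.lt_def, Fin.val_castSucc]
  split_ifs <;> simp

variable {U V : Arrow C}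
  [∀ n : ℕ, HasWidePullback U.right (fun _ : Fin (n + 1) => U.left) fun _ => U.hom]
  [∀ n : ℕ, HasWidePullback V.right (fun _ : Fin (n + 1) => V.left) fun _ => V.hom]

/-- projections of the Čech nerve -/
noncomputable abbrev pr (U : Arrow C) [∀ n : ℕ, HasWidePullback U.right (fun _ : Fin (n + 1) => U.left) fun _ => U.hom]
    {n : ℕ} (a : Fin (n + 1)) : U.cechNerve.obj (op ⦋n⦌) ⟶ U.left :=
  WidePullback.π (fun _ => U.hom) a

/-- base of the Čech nerve -/
noncomputable abbrev bs (U : Arrow C) [∀ n : ℕ, HasWidePullback U.right (fun _ : Fin (n + 1) => U.left) fun _ => U.hom]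
    (n : ℕ) : U.cechNerve.obj (op ⦋n⦌) ⟶ U.right :=
  WidePullback.base fun _ => U.hom

lemma map_pr {m n : ℕ} (φ : ⦋m⦌ ⟶ ⦋n⦌) (a : Fin (m + 1)) :
    U.cechNerve.map φ.op ≫ pr U a = pr U (φ.toOrderHom a) :=
  WidePullback.lift_π _ _ _ _ _

lemma map_bs {m n : ℕ} (φ : ⦋m⦌ ⟶ ⦋n⦌) : U.cechNerve.map φ.op ≫ bs U m = bs U n :=
  WidePullback.lift_base _ _ _ _

lemma app_pr (F : U ⟶ V) {n : ℕ} (a : Fin (n + 1)) :
    (Arrow.mapCechNerve F).app (op ⦋n⦌) ≫ pr V a = pr U a ≫ F.left :=
  WidePullback.lift_π _ _ _ _ _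

lemma app_bs (F : U ⟶ V) (n : ℕ) : (Arrow.mapCechNerve F).app (op ⦋n⦌) ≫ bs V n = bs U n ≫ F.right :=
  WidePullback.lift_base _ _ _ _

/-- Two maps of arrows with equal codomain components induce homotopic maps of Čech nerves. -/
noncomputable def homotopy (F G : U ⟶ V) (hr : F.right = G.right) :
    SimplicialObject.Homotopy (Arrow.mapCechNerve F) (Arrow.mapCechNerve G) := by
  classical
  let P : Bool → (U.left ⟶ V.left) := fun c => if c then F.left else G.left
  have hP : ∀ c, P c ≫ V.hom = U.hom ≫ F.right := fun c => by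
    cases c
    · exact (Arrow.w G).trans (congrArg (U.hom ≫ ·) hr.symm)
    · exact Arrow.w F
  let H : ∀ {n : ℕ}, Fin (n + 1) → (U.cechNerve.obj (op ⦋n⦌) ⟶ V.cechNerve.obj (op ⦋n + 1⦌)) := fun {n} i =>
    WidePullback.lift (bs U n ≫ F.right)
      (fun a => pr U (i.predAbove a) ≫ P (decide ((a : ℕ) ≤ (i : ℕ))))
      (fun a => by rw [Category.assoc, hP, ← Category.assoc, WidePullback.π_arrow])
  have key : ∀ {n : ℕ} {x y : Fin (n + 1)} {c d : Bool}, x = y → c = d → pr U x ≫ P c = pr U y ≫ P d := by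
    rintro n x y c d rfl rfl; rfl
  have hext : ∀ {n : ℕ} {X : C} (g g' : X ⟶ V.cechNerve.obj (op ⦋n⦌)),
      (∀ a, g ≫ pr V a = g' ≫ pr V a) → g ≫ bs V n = g' ≫ bs V n → g = g' :=
    fun g g' h h' => WidePullback.hom_ext _ _ _ h h'
  have hπ : ∀ {n : ℕ} (i : Fin (n + 1)) (a : Fin (n + 2)),
      H i ≫ pr V a = pr U (i.predAbove a) ≫ P (decide ((a : ℕ) ≤ (i : ℕ))) :=
    fun i a => WidePullback.lift_π _ _ _ _ _
  have hb : ∀ {n : ℕ} (i : Fin (n + 1)), H i ≫ bs V (n + 1) = bs U n ≫ F.right :=
    fun i => WidePullback.lift_base _ _ _ _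
  have hh : ∀ {n : ℕ} (i : Fin (n + 1)) {m : ℕ} (φ : ⦋m⦌ ⟶ ⦋n + 1⦌) (b : Fin (m + 1)),
      (H i ≫ V.cechNerve.map φ.op) ≫ pr V b =
        pr U (i.predAbove (φ.toOrderHom b)) ≫ P (decide ((φ.toOrderHom b : ℕ) ≤ (i : ℕ))) := fun i m φ b => by
    rw [Category.assoc, map_pr, hπ]
  have hh' : ∀ {n : ℕ} (i : Fin (n + 1)) {m : ℕ} (φ : ⦋n⦌ ⟶ ⦋m⦌) (b : Fin (n + 2)),
      (U.cechNerve.map φ.op ≫ H i) ≫ pr V b =
        pr U (φ.toOrderHom (i.predAbove b)) ≫ P (decide ((b : ℕ) ≤ (i : ℕ))) := fun i m φ b => by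
    rw [Category.assoc, hπ, ← Category.assoc, map_pr]
  have hhb : ∀ {n : ℕ} (i : Fin (n + 1)) {m : ℕ} (φ : ⦋m⦌ ⟶ ⦋n + 1⦌),
      (H i ≫ V.cechNerve.map φ.op) ≫ bs V m = bs U n ≫ F.right := fun i m φ => by
    rw [Category.assoc, map_bs, hb]
  have hhb' : ∀ {n : ℕ} (i : Fin (n + 1)) {m : ℕ} (φ : ⦋n⦌ ⟶ ⦋m⦌),
      (U.cechNerve.map φ.op ≫ H i) ≫ bs V (n + 1) = bs U m ≫ F.right := fun i m φ => by
    rw [Category.assoc, hb, ← Category.assoc, map_bs]
  exact
  { h := fun {n} i => H i
    h_zero_comp_δ_zero := fun n => by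
      refine hext _ _ (fun b => ?_) ?_
      · refine (hh 0 (SimplexCategory.δ 0) b).trans ?_
        refine (key (y := b) (d := false) ?_ ?_).trans (app_pr G b).symm
        · simp [SimplexCategory.δ]
        · simp [SimplexCategory.δ]
      · refine (hhb 0 (SimplexCategory.δ 0)).trans ?_
        exact ((app_bs G n).trans (congrArg (bs U n ≫ ·) hr.symm)).symm
    h_last_comp_δ_last := fun n => by
      refine hext _ _ (fun b => ?_) ?_
      · refine (hh (Fin.last n) (SimplexCategory.δ (Fin.last (n + 1))) b).trans ?_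
        refine (key (y := b) (d := true) ?_ ?_).trans (app_pr F b).symm
        · change (Fin.last n).predAbove ((Fin.last (n + 1)).succAbove b) = b
          simp only [Fin.ext_iff, predAbove_val, succAbove_val, Fin.val_last]
          (try split_ifs) <;> omega
        · change decide ((((Fin.last (n + 1)).succAbove b : Fin (n + 2)) : ℕ) ≤ _) = true
          simp only [succAbove_val, Fin.val_last, decide_eq_true_eq]
          (try split_ifs) <;> omega
      · exact (hhb (Fin.last n) (SimplexCategory.δ (Fin.last (n + 1)))).trans (app_bs F n).symm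
    h_succ_comp_δ_castSucc_of_lt := fun {n} i j hij => by
      refine hext _ _ (fun b => ?_) ((hhb j.succ (SimplexCategory.δ i.castSucc)).trans (hhb' j (SimplexCategory.δ i)).symm)
      refine (hh j.succ (SimplexCategory.δ i.castSucc) b).trans ((key ?_ ?_).trans (hh' j (SimplexCategory.δ i) b).symm)
      all_goals
        simp only [Fin.le_def, Fin.val_castSucc] at hij
        simp only [SimplexCategory.δ, SimplexCategory.Hom.toOrderHom_mk, SimplexCategory.mkHom, OrderEmbedding.toOrderHom_coe,
          Fin.succAboveOrderEmb_apply, Fin.ext_iff, predAbove_val, succAbove_val, Fin.val_succ, Fin.val_castSucc, Fin.val_last, decide_eq_decide]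
        (try split_ifs) <;> omega
    h_succ_comp_δ_castSucc_succ := fun {n} j => by
      refine hext _ _ (fun b => ?_) ((hhb j.succ (SimplexCategory.δ j.castSucc.succ)).trans (hhb j.castSucc (SimplexCategory.δ j.castSucc.succ)).symm)
      refine (hh j.succ (SimplexCategory.δ j.castSucc.succ) b).trans
        ((key ?_ ?_).trans (hh j.castSucc (SimplexCategory.δ j.castSucc.succ) b).symm)
      all_goals
        simp only [SimplexCategory.δ, SimplexCategory.Hom.toOrderHom_mk, SimplexCategory.mkHom, OrderEmbedding.toOrderHom_coe,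
          Fin.succAboveOrderEmb_apply, Fin.ext_iff, predAbove_val, succAbove_val, Fin.val_succ, Fin.val_castSucc, Fin.val_last, decide_eq_decide]
        (try split_ifs) <;> omega
    h_castSucc_comp_δ_succ_of_lt := fun {n} i j hji => by
      refine hext _ _ (fun b => ?_) ((hhb j.castSucc (SimplexCategory.δ i.succ)).trans (hhb' j (SimplexCategory.δ i)).symm)
      refine (hh j.castSucc (SimplexCategory.δ i.succ) b).trans ((key ?_ ?_).trans (hh' j (SimplexCategory.δ i) b).symm)
      all_goals
        simp only [Fin.lt_def, Fin.val_castSucc] at hji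
        simp only [SimplexCategory.δ, SimplexCategory.Hom.toOrderHom_mk, SimplexCategory.mkHom, OrderEmbedding.toOrderHom_coe,
          Fin.succAboveOrderEmb_apply, Fin.ext_iff, predAbove_val, succAbove_val, Fin.val_succ, Fin.val_castSucc, Fin.val_last, decide_eq_decide]
        (try split_ifs) <;> omega
    h_comp_σ_castSucc_of_le := fun {n} i j hij => by
      refine hext _ _ (fun b => ?_) ((hhb j (SimplexCategory.σ i.castSucc)).trans (hhb' j.succ (SimplexCategory.σ i)).symm)
      refine (hh j (SimplexCategory.σ i.castSucc) b).trans ((key ?_ ?_).trans (hh' j.succ (SimplexCategory.σ i) b).symm)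
      all_goals
        simp only [Fin.le_def] at hij
        simp only [SimplexCategory.σ, SimplexCategory.Hom.toOrderHom_mk, SimplexCategory.mkHom,
          Fin.predAboveOrderHom_coe, Fin.ext_iff, predAbove_val, succAbove_val, Fin.val_succ, Fin.val_castSucc, Fin.val_last, decide_eq_decide]
        (try split_ifs) <;> omega
    h_comp_σ_succ_of_lt := fun {n} i j hji => by
      refine hext _ _ (fun b => ?_) ((hhb j (SimplexCategory.σ i.succ)).trans (hhb' j.castSucc (SimplexCategory.σ i)).symm)
      refine (hh j (SimplexCategory.σ i.succ) b).trans ((key ?_ ?_).trans (hh' j.castSucc (SimplexCategory.σ i) b).symm)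
      all_goals
        simp only [Fin.le_def] at hji
        simp only [SimplexCategory.σ, SimplexCategory.Hom.toOrderHom_mk, SimplexCategory.mkHom,
          Fin.predAboveOrderHom_coe, Fin.ext_iff, predAbove_val, succAbove_val, Fin.val_succ, Fin.val_castSucc, Fin.val_last, decide_eq_decide]
        (try split_ifs) <;> omega }

end Groth.Agent.NerveHtpy

namespace Groth.Agent.NerveHtpy

open CategoryTheory Limits

variable {C : Type u} [Category.{v} C] {U : Arrow C}
  [∀ n : ℕ, HasWidePullback U.right (fun _ : Fin (n + 1) => U.left) fun _ => U.hom]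

theorem mapCechNerve_id : Arrow.mapCechNerve (𝟙 U) = 𝟙 U.cechNerve := by
  refine NatTrans.ext (funext fun n => WidePullback.hom_ext _ _ _ (fun a => ?_) ?_)
  · exact (WidePullback.lift_π _ _ _ _ _).trans ((Category.comp_id _).trans (Category.id_comp _).symm)
  · exact (WidePullback.lift_base _ _ _ _).trans ((Category.comp_id _).trans (Category.id_comp _).symm)

end Groth.Agent.NerveHtpy
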